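import Cfsg.Agent.Lib.L72.Aut
import Cfsg.Agent.S2162
import Cfsg.Agent.Lib.ClAut.Graph2

/-! Involutions of GL(7,2) and the group T7 (project L72, see plans/L72.md). -/

set_option autoImplicit false
set_option maxRecDepth 100000
set_option Elab.async false

namespace CfsgLib.L72

open Matrix

variable {G : Type*} [Group G] [Finite G]

theorem InvA_nine {c : GN 7} {D : Matrix (Fin 7) (Fin 7) (ZMod 2)} (h1 : c.1 * c.1 * c.1 = D)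
    (h2 : D ≠ 1) (h3 : D * D * D = 1) : orderOf c = 9 := by
  haveI : Fact (Nat.Prime 3) := ⟨by norm_num⟩
  have e : (c ^ 3).1 = D := by rw [← h1, Units.val_pow_eq_pow_val]; simp only [pow_succ, pow_zero, one_mul]
  have := orderOf_eq_prime_pow (p := 3) (n := 1) (x := c) (by
    intro h
    rw [pow_one] at h
    exact h2 (by rw [← e, h, Units.val_one])) (by
    apply Units.ext
    rw [show 3 ^ (1 + 1) = 3 * 3 by norm_num, pow_mul, Units.val_pow_eq_pow_val, e, Units.val_one, ← h3]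
    simp only [pow_succ, pow_zero, one_mul])
  simpa using this

/-- an orthogonal element of order 9 -/
def InvA_c0 : GN 7 :=
  ⟨!![0, 1, 0, 1, 1, 1, 1; 1, 0, 0, 0, 1, 1, 0; 0, 0, 1, 1, 1, 1, 1; 0, 1, 1, 0, 0, 0, 1; 0, 1, 1, 1, 1, 1, 0; 1, 0, 0, 1, 0, 1, 0; 1, 0, 0, 1, 1, 0, 0],
   !![0, 1, 0, 0, 0, 1, 1; 1, 0, 0, 1, 1, 0, 0; 0, 0, 1, 1, 1, 0, 0; 1, 0, 1, 0, 1, 1, 1; 1, 1, 1, 0, 1, 0, 1; 1, 1, 1, 0, 1, 1, 0; 1, 0, 1, 1, 0, 0, 0],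
   by decide +kernel, by decide +kernel⟩

theorem InvA_c0_ord : orderOf InvA_c0 = 9 :=
  InvA_nine (D := !![0, 1, 0, 0, 1, 1, 0; 0, 0, 0, 0, 1, 1, 1; 1, 1, 0, 1, 0, 1, 1; 1, 1, 0, 1, 1, 0, 1; 0, 0, 1, 0, 0, 0, 0; 0, 0, 0, 1, 1, 1, 0; 1, 0, 0, 0, 1, 1, 0])
    (by decide +kernel) (by decide +kernel) (by decide +kernel)

theorem InvA_c0_io : io 7 InvA_c0 = InvA_c0 := by
  apply Units.ext
  rw [CfsgLib.ClAut.coe_glInvT]
  decide +kernel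

/-- an involutory graph automorphism of `GL(7,2)` fixes an element of order 9 -/
theorem graph_fix_nine (M : GN 7) (h : ∀ m : GN 7, M * io 7 (M * io 7 m * M⁻¹) * M⁻¹ = m) :
    ∃ c : GN 7, orderOf c = 9 ∧ M * io 7 c * M⁻¹ = c := by
  have h1 : M * io 7 M = 1 := by
    refine center_GN (by norm_num) _ fun m => ?_
    have := h m
    rw [map_mul, map_mul, map_inv, io_io] at this
    refine mul_inv_eq_iff_eq_mul.mp (Eq.trans ?_ this)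
    group
  have h2 : io 7 M = M⁻¹ := eq_inv_of_mul_eq_one_right h1
  have hA : ((M⁻¹ : GN 7) : Matrix (Fin 7) (Fin 7) (ZMod 2))ᵀ = (M⁻¹ : GN 7) := by
    rw [← CfsgLib.ClAut.coe_glInvT, h2]
  have s1 := CfsgLib.ClAut.formSim_oddF (F := ZMod 2) (by decide) M⁻¹ hA (m := 3) (by simp)
  have s2 := CfsgLib.ClAut.formSim_oddF (F := ZMod 2) (by decide) (1 : GN 7) (by simp) (m := 3) (by simp)
  obtain ⟨g, c, hg⟩ := CfsgLib.ClAut.formSim_mform_iff.mp (s1.trans s2.symm)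
  have hc : (c : ZMod 2) = 1 := aut_ne_zero c.ne_zero
  rw [hc, one_smul, Units.val_one, Matrix.mul_one] at hg
  have h3 : (io 7 g)⁻¹ * g = M⁻¹ := by
    apply Units.ext
    rw [← map_inv, Units.val_mul, CfsgLib.ClAut.coe_glInvT, inv_inv, hg]
  have h4 : M = g⁻¹ * io 7 g := by
    rw [← _root_.inv_inj, ← h3]; group
  refine ⟨g⁻¹ * InvA_c0 * g, ?_, ?_⟩
  · rw [← InvA_c0_ord]
    have := (MulAut.conj g⁻¹).orderOf_eq InvA_c0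
    simpa using this
  · rw [h4, map_mul, map_mul, map_inv, InvA_c0_io]
    group

theorem InvA_conj {a b : GN 7} (ha : a * a = 1) (ha1 : a ≠ 1) (hb : b * b = 1) (hb1 : b ≠ 1)
    (h : (a.1 - 1).rank = (b.1 - 1).rank) : IsConj a b := by
  haveI : Fact (Nat.Prime 2) := ⟨by norm_num⟩
  have o : ∀ t : GN 7, t * t = 1 → t ≠ 1 → orderOf (toSL 7 t) = 2 := by
    intro t h2 h1
    rw [orderOf_injective (toSL 7) (toSL_bij 7).1]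
    exact orderOf_eq_prime (by rw [pow_two, h2]) h1
  have := (Cfsg.Agent.S2162.result (by norm_num) _ _ (o a ha ha1) (o b hb hb1)).mpr h
  have := (CfsgLib.ClAut.slGL (Fin 7) (ZMod 2)).map_isConj this
  rwa [slGL_toSL, slGL_toSL] at this

theorem InvA_rank (P : GN 7) (d : Fin 7 → ZMod 2) :
    (P.1 * Matrix.diagonal d).rank = Fintype.card {i // d i ≠ 0} := by
  rw [Matrix.rank_mul_eq_right_of_isUnit_det _ _ (by rw [aut_det]; exact isUnit_one),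
    Matrix.rank_diagonal]

theorem rank_w2 : ((w2 : GN 7).1 - 1).rank = 2 := by
  have : (w2 : GN 7).1 - 1 = (sw 2 4 * sw 3 5 : GN 7).1 * Matrix.diagonal ![0, 0, 1, 1, 0, 0, 0] := by
    have e1 : (sw 2 4 : GN 7).1 = !![1, 0, 0, 0, 0, 0, 0; 0, 1, 0, 0, 0, 0, 0; 0, 0, 0, 0, 1, 0, 0; 0, 0, 0, 1, 0, 0, 0; 0, 0, 1, 0, 0, 0, 0; 0, 0, 0, 0, 0, 1, 0; 0, 0, 0, 0, 0, 0, 1] := by
      decide +kernel
    have e2 : (sw 3 5 : GN 7).1 = !![1, 0, 0, 0, 0, 0, 0; 0, 1, 0, 0, 0, 0, 0; 0, 0, 1, 0, 0, 0, 0; 0, 0, 0, 0, 0, 1, 0; 0, 0, 0, 0, 1, 0, 0; 0, 0, 0, 1, 0, 0, 0; 0, 0, 0, 0, 0, 0, 1] := by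
      decide +kernel
    rw [Units.val_mul, e1, e2]
    decide +kernel
  rw [this, InvA_rank]
  decide

theorem rank_w3 : ((w3 : GN 7).1 - 1).rank = 3 := by
  obtain ⟨P, hP⟩ : ∃ P : GN 7, P.1 = !![0, 0, 0, 1, 0, 0, 0; 0, 0, 0, 0, 1, 0, 0; 0, 0, 0, 0, 0, 1, 0; 1, 0, 0, 0, 0, 0, 0; 0, 1, 0, 0, 0, 0, 0; 0, 0, 1, 0, 0, 0, 0; 0, 0, 0, 0, 0, 0, 1] :=
    ⟨⟨_, !![0, 0, 0, 1, 0, 0, 0; 0, 0, 0, 0, 1, 0, 0; 0, 0, 0, 0, 0, 1, 0; 1, 0, 0, 0, 0, 0, 0; 0, 1, 0, 0, 0, 0, 0; 0, 0, 1, 0, 0, 0, 0; 0, 0, 0, 0, 0, 0, 1],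
      by decide +kernel, by decide +kernel⟩, rfl⟩
  have : (w3 : GN 7).1 - 1 = P.1 * Matrix.diagonal ![1, 1, 1, 0, 0, 0, 0] := by
    rw [hP]
    decide +kernel
  rw [this, InvA_rank]
  decide

theorem inv_class (t : GN 7) (h2 : t * t = 1) (h1 : t ≠ 1) :
    IsConj (E 6 0) t ∨ IsConj w2 t ∨ IsConj w3 t := by
  have hsq : (t.1 - 1) * (t.1 - 1) = 0 := by
    have e : t.1 * t.1 = 1 := by rw [← Units.val_mul, h2, Units.val_one]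
    have e2 : t.1 + t.1 = 0 := by ext a b; simp [CharTwo.add_self_eq_zero]
    have e3 : (1 : Matrix (Fin 7) (Fin 7) (ZMod 2)) + 1 = 0 := by
      ext a b; simp only [Matrix.add_apply, Matrix.zero_apply, CharTwo.add_self_eq_zero]
    calc (t.1 - 1) * (t.1 - 1) = t.1 * t.1 + 1 - (t.1 + t.1) := by noncomm_ring
      _ = 0 := by rw [e, e2, e3, sub_zero]
  have hle := Matrix.rank_add_rank_le_card_of_mul_eq_zero hsq
  rw [Fintype.card_fin] at hle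
  have h0 : (t.1 - 1).rank ≠ 0 := by
    intro h
    apply h1
    apply Units.ext
    have : (t.1 - 1).mulVecLin = 0 := by
      rw [← LinearMap.range_eq_bot]
      exact Submodule.finrank_eq_zero.mp h
    have : t.1 - 1 = 0 := by
      apply Matrix.toLin'.injective
      rw [map_zero]
      exact this
    exact sub_eq_zero.mp this
  have hc : (t.1 - 1).rank = 1 ∨ (t.1 - 1).rank = 2 ∨ (t.1 - 1).rank = 3 := by omega
  rcases hc with h | h | h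
  · exact Or.inl (InvA_conj (E_mul_self _ _) (E_ne_one (by decide)) h2 h1
      ((rank_E (by decide)).trans h.symm))
  · exact Or.inr (Or.inl (InvA_conj (by decide +kernel) (by decide +kernel) h2 h1 (rank_w2.trans h.symm)))
  · exact Or.inr (Or.inr (InvA_conj (by
      have e : (w3 : GN 7).1 = !![1, 0, 0, 0, 0, 0, 0; 0, 1, 0, 0, 0, 0, 0; 0, 0, 1, 0, 0, 0, 0; 1, 0, 0, 1, 0, 0, 0; 0, 1, 0, 0, 1, 0, 0; 0, 0, 1, 0, 0, 1, 0; 0, 0, 0, 0, 0, 0, 1] := by decide +kernel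
      apply Units.ext
      rw [Units.val_mul, e]
      decide +kernel) (by decide +kernel) h2 h1 (rank_w3.trans h.symm)))

def InvA_σ : GN 7 :=
  ⟨!![0, 0, 1, 0, 0, 0, 0; 1, 0, 1, 0, 0, 0, 0; 0, 1, 0, 0, 0, 0, 0; 0, 0, 0, 0, 0, 1, 0; 0, 0, 0, 1, 0, 1, 0; 0, 0, 0, 0, 1, 0, 0; 0, 0, 0, 0, 0, 0, 1],
   !![1, 1, 0, 0, 0, 0, 0; 0, 0, 1, 0, 0, 0, 0; 1, 0, 0, 0, 0, 0, 0; 0, 0, 0, 1, 1, 0, 0; 0, 0, 0, 0, 0, 1, 0; 0, 0, 0, 1, 0, 0, 0; 0, 0, 0, 0, 0, 0, 1],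
   by decide +kernel, by decide +kernel⟩

def InvA_c : GN 7 :=
  ⟨!![0, 0, 0, 1, 0, 0, 0; 0, 0, 0, 0, 1, 0, 0; 0, 0, 0, 0, 0, 1, 0; 1, 0, 0, 0, 0, 1, 0; 0, 1, 0, 1, 0, 1, 0; 0, 0, 1, 0, 1, 0, 0; 0, 0, 0, 0, 0, 0, 1],
   !![0, 0, 1, 1, 0, 0, 0; 1, 0, 1, 0, 1, 0, 0; 0, 1, 0, 0, 0, 1, 0; 1, 0, 0, 0, 0, 0, 0; 0, 1, 0, 0, 0, 0, 0; 0, 0, 1, 0, 0, 0, 0; 0, 0, 0, 0, 0, 0, 1],
   by decide +kernel, by decide +kernel⟩

/-- elements of order 7 and 9 around the involution of rank 3 -/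
theorem w3_data : ∃ σ c : GN 7, orderOf σ = 7 ∧ orderOf c = 9 ∧ Commute σ w3 ∧ Commute σ c := by
  haveI : Fact (Nat.Prime 7) := ⟨by norm_num⟩
  refine ⟨InvA_σ, InvA_c, orderOf_eq_prime ?_ (by decide +kernel),
    InvA_nine (D := !![0, 0, 1, 1, 1, 0, 0; 1, 0, 1, 0, 0, 1, 0; 0, 1, 0, 1, 0, 0, 0; 1, 1, 0, 1, 0, 1, 0; 0, 0, 1, 1, 1, 1, 0; 1, 0, 0, 0, 1, 1, 0; 0, 0, 0, 0, 0, 0, 1])
      (by decide +kernel) (by decide +kernel) (by decide +kernel), ?_, ?_⟩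
  · have e : InvA_σ.1 * InvA_σ.1 * InvA_σ.1 = !![1, 0, 1, 0, 0, 0, 0; 1, 1, 1, 0, 0, 0, 0; 0, 1, 1, 0, 0, 0, 0; 0, 0, 0, 1, 0, 1, 0; 0, 0, 0, 1, 1, 1, 0; 0, 0, 0, 0, 1, 1, 0; 0, 0, 0, 0, 0, 0, 1] := by
      decide +kernel
    apply Units.ext
    rw [Units.val_pow_eq_pow_val, Units.val_one]
    calc InvA_σ.1 ^ 7 = (InvA_σ.1 * InvA_σ.1 * InvA_σ.1) * (InvA_σ.1 * InvA_σ.1 * InvA_σ.1) * InvA_σ.1 := by
          simp only [pow_succ, pow_zero, one_mul, mul_assoc]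
      _ = 1 := by rw [e]; decide +kernel
  · have e : (w3 : GN 7).1 = !![1, 0, 0, 0, 0, 0, 0; 0, 1, 0, 0, 0, 0, 0; 0, 0, 1, 0, 0, 0, 0; 1, 0, 0, 1, 0, 0, 0; 0, 1, 0, 0, 1, 0, 0; 0, 0, 1, 0, 0, 1, 0; 0, 0, 0, 0, 0, 0, 1] := by decide +kernel
    apply Units.ext
    rw [Units.val_mul, Units.val_mul, e]
    decide +kernel
  · unfold Commute SemiconjBy; decide +kernel

end CfsgLib.L72
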